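import Cfsg.Agent.H742.EX.EPi
import Cfsg.Agent.H742.EX.NoS

/-!
# S5745: the weighted inequality (helper602)

`EP H`, `n = |G : H|`, `F x` = number of fixed points of `x` on `G / H`.

* `weighted` : if `∑_{r ∈ π} w_r #{x ∈ M, |x| = r} ≥ c` for every two-point stabiliser `M` then
  `c (n - 1) ≤ ∑_{r ∈ π} w_r ∑_{x ∈ H, |x| = r} (F x - 1)`;
* `weighted_num` : then `c (|G| - |H|) ≤ ∑_{r ∈ π} w_r N_r ^ 2 z_r`, `N_r ≥ #{x ∈ H, |x| = r}`, `z_r ≥ |C_G(x)|`;
* `four` : if `H` contains `3 ^ 2` and `3` divides `|M|` then `M` has at least `4` elements of order `3`;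
* `card_order_le` : a group with Sylow `p`-subgroups of order `p` has at most `(p - 1) #Syl_p` elements of order `p`.
-/

set_option autoImplicit false

namespace Cfsg.Agent.H602.EPX

open MulAction Subgroup Cfsg.Agent.H284 Cfsg.Agent.H209.EPX Cfsg.Agent.H742.EX
open scoped Pointwise

section wt

variable {G : Type*} [Group G] [Finite G] {H : Subgroup G}

theorem weighted (π : Finset ℕ) (w : ℕ → ℚ) (hw : ∀ r ∈ π, 0 ≤ w r) (c : ℚ)
    (hM : ∀ g ∉ H, c ≤ ∑ r ∈ π, w r * ((el (H ⊓ cj g H : Subgroup G) r).card : ℚ)) :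
    c * ((H.index : ℚ) - 1) ≤ ∑ r ∈ π, w r * ∑ x ∈ el H r, ((F H x : ℚ) - 1) := by
  classical
  have hfin : Finite (G ⧸ H) := inferInstance
  let _ : Fintype (G ⧸ H) := Fintype.ofFinite _
  let o : G ⧸ H := QuotientGroup.mk 1
  have hst : ∀ (b : G ⧸ H), b ≠ o → c ≤ ∑ r ∈ π, w r * (((el H r).filter (fun x => x • b = b)).card : ℚ) := by
    intro b hb
    obtain ⟨g, rfl⟩ := QuotientGroup.mk_surjective b
    have hg : g ∉ H := by
      intro hg
      apply hb
      change (QuotientGroup.mk g : G ⧸ H) = QuotientGroup.mk 1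
      rw [QuotientGroup.eq, mul_one]
      exact H.inv_mem hg
    refine (hM g hg).trans (Finset.sum_le_sum fun r hr => mul_le_mul_of_nonneg_left ?_ (hw r hr))
    rw [Nat.cast_le]
    refine Finset.card_le_card fun x hx => ?_
    rw [mem_el] at hx
    rw [Finset.mem_filter, mem_el]
    refine ⟨⟨hx.1.1, hx.2⟩, ?_⟩
    exact (mem_fixedBy).1 (fixedBy_iff.2 (mem_cj.1 hx.1.2))
  have hsum := Finset.sum_le_sum (s := Finset.univ.erase o) (f := fun _ => c) (fun b hb =>
    hst b (Finset.ne_of_mem_erase hb))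
  rw [Finset.sum_const, Finset.card_erase_of_mem (Finset.mem_univ _), Finset.card_univ, ← Nat.card_eq_fintype_card,
    nsmul_eq_mul, Finset.sum_comm] at hsum
  have hidx : Nat.card (G ⧸ H) = H.index := rfl
  have hi1 : 1 ≤ H.index := Nat.one_le_iff_ne_zero.2 (Subgroup.index_ne_zero_of_finite)
  rw [hidx, Nat.cast_sub hi1, Nat.cast_one, mul_comm] at hsum
  refine hsum.trans (le_of_eq ?_)
  refine Finset.sum_congr rfl fun r _ => ?_
  rw [← Finset.mul_sum]
  congr 1
  have h1 : ∀ b : G ⧸ H, (((el H r).filter (fun x => x • b = b)).card : ℚ) =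
      ∑ x ∈ el H r, (if x • b = b then (1 : ℚ) else 0) := by
    intro b
    rw [Finset.sum_boole]
  rw [Finset.sum_congr rfl (fun b _ => h1 b), Finset.sum_comm]
  refine Finset.sum_congr rfl fun x hx => ?_
  rw [Finset.sum_boole, Finset.filter_erase]
  have hox : o ∈ Finset.univ.filter (fun b : G ⧸ H => x • b = b) := by
    rw [Finset.mem_filter]
    refine ⟨Finset.mem_univ _, ?_⟩
    change x • (QuotientGroup.mk 1 : G ⧸ H) = QuotientGroup.mk 1
    refine (mem_fixedBy).1 (fixedBy_iff.2 ?_)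
    rw [inv_one, one_mul, mul_one]
    exact (mem_el.1 hx).1
  rw [Finset.card_erase_of_mem hox, Nat.cast_sub (Finset.card_pos.2 ⟨o, hox⟩), Nat.cast_one]
  congr 1
  rw [F, Nat.card_eq_fintype_card, Fintype.card_subtype]
  rfl

theorem cH_le {r : ℕ} {x : G} (hx : orderOf x = r) : cH H x ≤ (el H r).card := by
  have h5 : cH H x ≤ Nat.card (el H r) := by
    refine Nat.card_le_card_of_injective (fun y => ⟨y.1, mem_el.2 ⟨y.2.2, ?_⟩⟩) ?_
    · obtain ⟨d, hd⟩ := isConj_iff.1 y.2.1
      rw [← hd, ← hx]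
      exact (MulAut.conj d).orderOf_eq x
    · intro y z hyz
      exact Subtype.ext (congrArg (fun t : el H r => (t : G)) hyz)
  rwa [Nat.card_eq_fintype_card, Fintype.card_coe] at h5

omit [Finite G] in
theorem card_cent (x : G) : Nat.card {g : G // g⁻¹ * x * g = x} = Nat.card (centralizer {x} : Subgroup G) := by
  refine Nat.card_congr (Equiv.subtypeEquivRight fun g => ?_)
  rw [mem_centralizer_singleton_iff, mul_assoc, inv_mul_eq_iff_eq_mul]
  exact eq_comm

theorem weighted_num (π : Finset ℕ) (w : ℕ → ℚ) (hw : ∀ r ∈ π, 0 ≤ w r) (c : ℚ)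
    (hM : ∀ g ∉ H, c ≤ ∑ r ∈ π, w r * ((el (H ⊓ cj g H : Subgroup G) r).card : ℚ)) (N z : ℕ → ℕ)
    (hN : ∀ r ∈ π, (el H r).card ≤ N r)
    (hz : ∀ r ∈ π, ∀ x ∈ H, orderOf x = r → Nat.card (centralizer {x} : Subgroup G) ≤ z r) :
    c * ((Nat.card G : ℚ) - Nat.card H) ≤ ∑ r ∈ π, w r * ((N r : ℚ) ^ 2 * z r) := by
  have h1 := weighted π w hw c hM
  have hH : (0 : ℚ) < Nat.card H := by exact_mod_cast Nat.card_pos
  have h2 := mul_le_mul_of_nonneg_right h1 hH.le
  have e1 : c * ((H.index : ℚ) - 1) * Nat.card H = c * ((Nat.card G : ℚ) - Nat.card H) := by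
    have h3 : (Nat.card H : ℚ) * H.index = Nat.card G := by exact_mod_cast H.card_mul_index
    rw [← h3]; ring
  rw [e1, Finset.sum_mul] at h2
  refine h2.trans (Finset.sum_le_sum fun r hr => ?_)
  rw [mul_assoc]
  refine mul_le_mul_of_nonneg_left ?_ (hw r hr)
  rw [Finset.sum_mul]
  have h4 : ∀ x ∈ el H r, ((F H x : ℚ) - 1) * Nat.card H ≤ (N r : ℚ) * z r := by
    intro x hx
    obtain ⟨hx1, hx2⟩ := mem_el.1 hx
    have h5 : (F H x : ℚ) * Nat.card H = cH H x * Nat.card (centralizer {x} : Subgroup G) := by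
      have := F_mul H x
      rw [card_cent] at this
      exact_mod_cast this
    have h6 : (cH H x : ℚ) ≤ N r := by exact_mod_cast (cH_le hx2).trans (hN r hr)
    have h7 : (Nat.card (centralizer {x} : Subgroup G) : ℚ) ≤ z r := by exact_mod_cast hz r hr x hx1 hx2
    have h8 : (cH H x : ℚ) * Nat.card (centralizer {x} : Subgroup G) ≤ N r * z r :=
      mul_le_mul h6 h7 (Nat.cast_nonneg _) (Nat.cast_nonneg _)
    rw [sub_mul, one_mul, h5]
    linarith
  refine (Finset.sum_le_card_nsmul _ _ _ h4).trans ?_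
  rw [nsmul_eq_mul, pow_two, mul_assoc]
  refine mul_le_mul_of_nonneg_right ?_ (by positivity)
  exact_mod_cast hN r hr

end wt

section four

variable {G : Type*} [Group G] [Finite G] {H : Subgroup G}

/-- **at least four elements of order `3`** -/
theorem four (h : EP H) {x : G} (hx : x ∉ H) {E : Type*} [Group E] (f : E →* H) (hf : Function.Injective f)
    (hE : Nat.card E = 9) (hE3 : ∀ a : E, a ^ 3 = 1) (hd : 3 ∣ Nat.card (H ⊓ cj x H : Subgroup G)) :
    4 ≤ (el (H ⊓ cj x H : Subgroup G) 3).card := by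
  classical
  by_contra hlt
  have h3 : Fact (Nat.Prime 3) := ⟨Nat.prime_three⟩
  set M : Subgroup G := H ⊓ cj x H with hMdef
  obtain ⟨y, hy⟩ := exists_prime_orderOf_dvd_card' 3 hd
  obtain ⟨u, hu⟩ : ∃ u : G, u = y := ⟨_, rfl⟩
  have huM : u ∈ M := by rw [hu]; exact y.2
  have huo : orderOf u = 3 := by rw [hu, Subgroup.orderOf_coe, hy]
  have hinv : ∀ v : G, orderOf v = 3 → v ≠ v⁻¹ := by
    intro v hv he
    have h1 : v ^ 2 = 1 := by
      rw [pow_two]
      nth_rewrite 1 [he]
      exact inv_mul_cancel v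
    have h2 := orderOf_dvd_of_pow_eq_one h1
    rw [hv] at h2
    norm_num at h2
  have key : ∀ v ∈ M, orderOf v = 3 → v = u ∨ v = u⁻¹ := by
    intro v hv hvo
    by_contra hcon
    push Not at hcon
    apply hlt
    have h4 : ({u, u⁻¹, v, v⁻¹} : Finset G).card = 4 := by
      rw [Finset.card_insert_of_notMem, Finset.card_insert_of_notMem, Finset.card_pair (hinv v hvo)]
      · rw [Finset.mem_insert, Finset.mem_singleton]
        rintro (h5 | h5)
        · exact hcon.2 h5.symm
        · exact hcon.1 (inv_injective h5).symm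
      · rw [Finset.mem_insert, Finset.mem_insert, Finset.mem_singleton]
        rintro (h5 | h5 | h5)
        · exact hinv u huo h5
        · exact hcon.1 h5.symm
        · exact hcon.2 (by rw [h5, inv_inv])
    rw [← h4]
    refine Finset.card_le_card fun w hw => ?_
    simp only [Finset.mem_insert, Finset.mem_singleton] at hw
    rw [mem_el]
    rcases hw with rfl | rfl | rfl | rfl
    · exact ⟨huM, huo⟩
    · exact ⟨M.inv_mem huM, by rw [orderOf_inv, huo]⟩
    · exact ⟨hv, hvo⟩
    · exact ⟨M.inv_mem hv, by rw [orderOf_inv, hvo]⟩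
  have hMH : M ≤ H := inf_le_left
  -- the normaliser of `⟨u⟩` in `H` is `M`
  have hnorm : ∀ g ∈ H, g * u = u * g → g ∈ M := by
    intro g hg hgu
    refine mem_inf.2 ⟨hg, ?_⟩
    have hconj : ∀ m : G, (m * u * m⁻¹ = u ∨ m * u * m⁻¹ = u⁻¹) → ∀ k ∈ zpowers u, m * k * m⁻¹ ∈ zpowers u := by
      intro m hm k hk
      obtain ⟨i, rfl⟩ := mem_zpowers_iff.1 hk
      rw [← conj_zpow]
      rcases hm with hm | hm
      · rw [hm]
        exact zpow_mem (mem_zpowers u) i
      · rw [hm]
        exact zpow_mem (inv_mem (mem_zpowers u)) i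
    refine h.norm hx (X := zpowers u) ?_ ?_ ?_ hg (hconj g (Or.inl ?_))
    · rw [zpowers_le]
      exact huM
    · intro m hm
      apply hconj
      apply key
      · exact M.mul_mem (M.mul_mem hm huM) (M.inv_mem hm)
      · rw [← huo]
        exact (MulAut.conj m).orderOf_eq u
    · rw [Ne, zpowers_eq_bot]
      intro h0
      rw [h0, orderOf_one] at huo
      norm_num at huo
    · rw [hgu, mul_inv_cancel_right]
  -- a Sylow subgroup of `H` containing `u`
  obtain ⟨u', hu'⟩ : ∃ u' : H, (u' : G) = u := ⟨⟨u, hMH huM⟩, rfl⟩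
  have hu'o : orderOf u' = 3 := by rw [← Subgroup.orderOf_coe, hu', huo]
  have hzp : IsPGroup 3 (zpowers u') := IsPGroup.of_card (n := 1) (by rw [Nat.card_zpowers, hu'o, pow_one])
  obtain ⟨P, hP⟩ := hzp.exists_le_sylow
  have hu'P : u' ∈ P := hP (mem_zpowers u')
  have hPnt : Nontrivial P := ⟨⟨⟨u', hu'P⟩, 1, fun h0 => by
    have h1 : u' = 1 := congrArg Subtype.val h0
    rw [h1, orderOf_one] at hu'o
    norm_num at hu'o⟩⟩
  have hcn : Nontrivial (center P) := P.2.center_nontrivial
  have hc3 : 3 ∣ Nat.card (center P) := by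
    obtain ⟨n, hn⟩ := IsPGroup.iff_card.1 (P.2.to_subgroup (center P))
    rw [hn]
    apply dvd_pow_self
    rintro rfl
    rw [pow_zero] at hn
    exact (Finite.one_lt_card (α := center P)).ne' hn
  obtain ⟨z, hz⟩ := exists_prime_orderOf_dvd_card' 3 hc3
  have hzo : orderOf (((z : P) : H) : G) = 3 := by
    rw [Subgroup.orderOf_coe, Subgroup.orderOf_coe, Subgroup.orderOf_coe, hz]
  have hzc : ∀ p : H, p ∈ P → (p : G) * (((z : P) : H) : G) = (((z : P) : H) : G) * p := by
    intro p hp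
    have h1 := mem_center_iff.1 z.2 ⟨p, hp⟩
    have h2 : (p : H) * ((z : P) : H) = ((z : P) : H) * p := congrArg Subtype.val h1
    exact congrArg Subtype.val h2
  have hzM : (((z : P) : H) : G) ∈ M := by
    apply hnorm _ (Subtype.coe_prop _)
    have := hzc u' hu'P
    rw [hu'] at this
    exact this.symm
  have hPM : ∀ p : H, p ∈ P → (p : G) ∈ M := by
    intro p hp
    apply hnorm _ p.2
    have h1 := hzc p hp
    rcases key _ hzM hzo with h2 | h2
    · rw [h2] at h1
      exact h1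
    · rw [h2] at h1
      have h4 : Commute (p : G) u⁻¹ := h1
      exact (Commute.inv_right_iff.1 h4).eq
  -- the subgroup `3 ^ 2`
  have hfin : Finite E := Nat.finite_of_card_ne_zero (by rw [hE]; norm_num)
  have hR : IsPGroup 3 f.range := IsPGroup.of_card (n := 2) (by
    rw [Nat.card_congr (MonoidHom.ofInjective hf).toEquiv.symm, hE]
    norm_num)
  obtain ⟨Q, hQ⟩ := hR.exists_le_sylow
  obtain ⟨g, hg⟩ := MulAction.exists_smul_eq H Q P
  have hgP : ∀ a : E, g * f a * g⁻¹ ∈ P := by
    intro a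
    rw [← hg]
    have h1 : f a ∈ (Q : Subgroup H) := hQ ⟨a, rfl⟩
    have h2 : MulAut.conj g • (f a) ∈ MulAut.conj g • (Q : Subgroup H) := Subgroup.smul_mem_pointwise_smul _ _ _ h1
    exact h2
  have h8 : Nat.card {a : E // a ≠ 1} = 8 := by
    have h1 := Nat.card_congr (Equiv.Set.sumCompl ({1} : Set E)).symm
    rw [Nat.card_sum, hE] at h1
    have h2 : Nat.card ({1} : Set E) = 1 := by simp
    rw [h2] at h1
    have h4 : Nat.card (({1} : Set E)ᶜ : Set E) = Nat.card {a : E // a ≠ 1} := rfl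
    omega
  have h9 : Nat.card {a : E // a ≠ 1} ≤ Nat.card (({u, u⁻¹} : Finset G)) := by
    refine Nat.card_le_card_of_injective (fun a => ⟨((g * f a.1 * g⁻¹ : H) : G), ?_⟩) ?_
    · rw [Finset.mem_insert, Finset.mem_singleton]
      apply key _ (hPM _ (hgP a.1))
      rw [Subgroup.orderOf_coe]
      have h1 : orderOf (g * f a.1 * g⁻¹) = orderOf (f a.1) := (MulAut.conj g).orderOf_eq (f a.1)
      rw [h1, orderOf_injective f hf]
      exact orderOf_eq_prime (hE3 _) a.2
    · intro a b hab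
      have h1 := congrArg Subtype.val hab
      have h2 : g * f a.1 * g⁻¹ = g * f b.1 * g⁻¹ := Subtype.ext h1
      have h4 : f a.1 = f b.1 := by
        have := mul_right_cancel h2
        exact mul_left_cancel this
      exact Subtype.ext (hf h4)
  rw [h8, Nat.card_eq_fintype_card, Fintype.card_coe] at h9
  have h10 := Finset.card_le_two (a := u) (b := u⁻¹)
  omega

end four

section syl

variable {K : Type*} [Group K] [Finite K]

/-- the number of elements of order `p` when the Sylow subgroups have order `p` -/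
theorem card_order_le {p : ℕ} [hp : Fact p.Prime] (h1 : (Nat.card K).factorization p = 1) :
    Nat.card {x : K // orderOf x = p} ≤ Nat.card (Sylow p K) * (p - 1) := by
  classical
  have := Fintype.ofFinite (Sylow p K)
  have hc : ∀ x : K, orderOf x = p → Nat.card (zpowers x) = p ^ (Nat.card K).factorization p := by
    intro x hx
    rw [Nat.card_zpowers, hx, h1, pow_one]
  have h2 : Nat.card {x : K // orderOf x = p} ≤ Nat.card (Σ P : Sylow p K, {y : P // y ≠ 1}) := by
    refine Nat.card_le_card_of_injective (fun x => ⟨Sylow.ofCard (zpowers x.1) (hc x.1 x.2),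
      ⟨⟨x.1, mem_zpowers x.1⟩, fun h0 => ?_⟩⟩) ?_
    · have h3 : x.1 = 1 := congrArg Subtype.val h0
      have h4 := x.2
      rw [h3, orderOf_one] at h4
      exact hp.1.one_lt.ne h4
    · intro x y hxy
      have h3 := congrArg (fun s : (Σ P : Sylow p K, {y : P // y ≠ 1}) => ((s.2.1 : s.1) : K)) hxy
      exact Subtype.ext h3
  refine h2.trans ?_
  rw [Nat.card_sigma, Nat.card_eq_fintype_card (α := Sylow p K)]
  have h3 : ∀ P : Sylow p K, Nat.card {y : P // y ≠ 1} = p - 1 := by
    intro P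
    have h4 : Nat.card P = p := by rw [P.card_eq_multiplicity, h1, pow_one]
    have h5 := Nat.card_congr (Equiv.Set.sumCompl ({1} : Set P)).symm
    rw [Nat.card_sum, h4] at h5
    have h6 : Nat.card ({1} : Set P) = 1 := by simp
    rw [h6] at h5
    have h7 : Nat.card (({1} : Set P)ᶜ : Set P) = Nat.card {y : P // y ≠ 1} := rfl
    omega
  rw [Finset.sum_congr rfl (fun P _ => h3 P), Finset.sum_const, Finset.card_univ, smul_eq_mul]

end syl

end Cfsg.Agent.H602.EPX
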