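import Cfsg.Agent.H686.EX.Kill
import Cfsg.Agent.H548.RowPSL
import Cfsg.Agent.H602.EPX.Wt
import Cfsg.Agent.H602.EPX.L33

/-!
# S5745: the Tits group, `T = L₃(3)` (helper602)

`|G| = 17971200`, `|C_G(x)| ≤ 108` for `|x| = 3`, `|C_G(x)| ≤ 13` for `|x| = 13`: no extremely primitive stabiliser `H` has
socle `L₃(3)`. Every two-point stabiliser has at least `4` elements of order `3` or at least `12` elements of order `13`:
`12 (|G| - |H|) ≤ 3 * 108 * 729 ^ 2 + 13 * 1728 ^ 2 < 12 * (17971200 - 11232)`.
-/

set_option autoImplicit false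

namespace Cfsg.Agent.H602.EPX

open MulAction Subgroup Cfsg Cfsg.Agent.H284 Cfsg.Agent.H209.EPX Cfsg.Agent.H742.EX Cfsg.Agent.H686.EX
open Cfsg.Agent.Nodes.RGDChev (HasRGD)

section data

variable {F : Type} [Field F] [Fintype F]

theorem charP_three' (hF : Fintype.card F = 3) : CharP F 3 := by
  obtain ⟨p, hp⟩ := CharP.exists F
  obtain ⟨k, hpp, hk⟩ := FiniteField.card F p
  rw [hF] at hk
  have h1 : p ∣ 3 := by
    rw [hk]
    exact dvd_pow_self p k.pos.ne'
  have h2 : p = 3 := (Nat.prime_dvd_prime_iff_eq hpp Nat.prime_three).1 h1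
  rwa [h2] at hp

theorem out_psl33 (hF : Fintype.card F = 3) :
    Nat.card (Out (Matrix.ProjectiveSpecialLinearGroup (Fin 3) F)) = 2 := by
  have : Fact (Nat.Prime 3) := ⟨Nat.prime_three⟩
  rw [Cfsg.Agent.H548.RowPSL.card_out_psl (p := 3) (f := 1) le_rfl (by rw [hF, pow_one]) (by norm_num)]
  decide

theorem card_psl33 (hF : Fintype.card F = 3) :
    Nat.card (Matrix.ProjectiveSpecialLinearGroup (Fin 3) F) = 5616 := by
  have h1 := Cfsg.Agent.S0243.result hF 3 (by norm_num)
  have h2 : Nat.gcd 3 (3 - 1) = 1 := by decide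
  have h3 : ∏ i : Fin 3, (3 ^ 3 - 3 ^ (i : ℕ)) = 11232 := by decide
  rw [h2, h3] at h1
  omega

end data

theorem card_out_congr {X Y : Type*} [Group X] [Group Y] (e : X ≃* Y) : Nat.card (Out X) = Nat.card (Out Y) := by
  have h : (MulAut.conj (G := X)).range.map (MulAut.congr e).toMonoidHom = (MulAut.conj (G := Y)).range := by
    ext f
    constructor
    · rintro ⟨_, ⟨a, rfl⟩, rfl⟩
      refine ⟨e a, ?_⟩
      apply MulEquiv.ext
      intro y
      show e a * y * (e a)⁻¹ = e (a * e.symm y * a⁻¹)
      rw [map_mul, map_mul, map_inv, e.apply_symm_apply]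
    · rintro ⟨a, rfl⟩
      refine ⟨MulAut.conj (e.symm a), ⟨e.symm a, rfl⟩, ?_⟩
      apply MulEquiv.ext
      intro y
      show e (e.symm a * e.symm y * (e.symm a)⁻¹) = a * y * a⁻¹
      rw [map_mul, map_mul, map_inv, e.apply_symm_apply, e.apply_symm_apply]
  exact Nat.card_congr (QuotientGroup.congr _ _ (MulAut.congr e) h).toEquiv

theorem divisors_bound : ∀ n ∈ Nat.divisors 432, n % 13 = 1 → n ≤ 144 := by decide +kernel

variable {G : Type*} [Group G] [Finite G] {H N : Subgroup G} {T : Type} [Group T] {e : N ≃* (Fin 1 → T)}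

/-- **The Tits group has no extremely primitive stabiliser with socle `L₃(3)`** -/
theorem tits_psl33 (hG : Nat.card G = 17971200) (h : EPS H N e) {F : Type} [Field F] [Fintype F]
    (hF : Fintype.card F = 3) (i : T ≃* Matrix.ProjectiveSpecialLinearGroup (Fin 3) F)
    (hz3 : ∀ x : G, orderOf x = 3 → Nat.card (centralizer {x} : Subgroup G) ≤ 108)
    (hz13 : ∀ x : G, orderOf x = 13 → Nat.card (centralizer {x} : Subgroup G) ≤ 13) : False := by
  classical
  have f3 : Fact (Nat.Prime 3) := ⟨Nat.prime_three⟩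
  have f13 : Fact (Nat.Prime 13) := ⟨by norm_num⟩
  have hN : NIn N H := h.toNIn
  let e' : N ≃* T := e.trans (MulEquiv.funUnique (Fin 1) T)
  have hT : Nat.card T = 5616 := by rw [Nat.card_congr i.toEquiv, card_psl33 hF]
  have hTf : Finite T := Nat.finite_of_card_ne_zero (by rw [hT]; norm_num)
  have hO : Nat.card (Out T) = 2 := by rw [card_out_congr i, out_psl33 hF]
  have hrel := relIndex_dvd_out hN h.cent e'
  rw [hO] at hrel
  have hcN : Nat.card N = 5616 := by rw [Nat.card_congr e'.toEquiv, hT]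
  have hcH : Nat.card N * N.relIndex H = Nat.card H := by
    have h3 := (N.subgroupOf H).card_mul_index
    rwa [Nat.card_congr (Subgroup.subgroupOfEquivOfLe hN.le).toEquiv] at h3
  have hHle : Nat.card H ≤ 11232 := by
    have := Nat.le_of_dvd (by norm_num) hrel
    rw [← hcH, hcN]
    omega
  have hHdvd : Nat.card H ∣ 11232 := by
    rw [← hcH, hcN]
    exact Nat.mul_dvd_mul_left 5616 hrel
  -- elements of order `3`
  have hRGD : HasRGD 3 T := Cfsg.Agent.Nodes.RGDClass.hasRGD_of_PSL
    ⟨F, inferInstance, inferInstance, charP_three' hF, 3, by norm_num, by norm_num, ⟨i⟩⟩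
  have hfac3 : (Nat.card T).factorization 3 = 3 := by
    rw [hT, show 5616 = 3 ^ 3 * 208 by norm_num, Nat.factorization_mul (by norm_num) (by norm_num), Finsupp.add_apply,
      Nat.factorization_pow, Finsupp.smul_apply, Nat.Prime.factorization_self Nat.prime_three,
      Nat.factorization_eq_zero_of_not_dvd (by norm_num)]
    simp
  have hN3 : (el H 3).card ≤ 729 := by
    have h1 := card_el_le hN e' Nat.prime_three (fun hd => by
      have := Nat.le_of_dvd (by norm_num) (hd.trans hrel)
      omega) hRGD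
    rw [hfac3] at h1
    exact h1
  -- elements of order `13`
  have hN13 : (el H 13).card ≤ 1728 := by
    have hfac : (Nat.card N).factorization 13 = 1 := by
      rw [hcN, show 5616 = 13 ^ 1 * 432 by norm_num, Nat.factorization_mul (by norm_num) (by norm_num), Finsupp.add_apply,
        Nat.factorization_pow, Finsupp.smul_apply, Nat.Prime.factorization_self (by norm_num),
        Nat.factorization_eq_zero_of_not_dvd (by norm_num)]
      simp
    have h1 := card_order_le (K := N) (p := 13) hfac
    have h2 : Nat.card (Sylow 13 N) ≤ 144 := by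
      obtain ⟨P⟩ : Nonempty (Sylow 13 N) := inferInstance
      have h3 := P.card_dvd_index
      have h4 := card_sylow_modEq_one 13 N
      have h5 : (P : Subgroup N).index = 432 := by
        have h6 := (P : Subgroup N).card_mul_index
        have h7 : Nat.card P = 13 := by rw [P.card_eq_multiplicity, hfac, pow_one]
        rw [h7, hcN] at h6
        omega
      rw [h5] at h3
      refine divisors_bound _ (Nat.mem_divisors.2 ⟨h3, by norm_num⟩) ?_
      exact h4
    have h3 : (el H 13).card ≤ Nat.card {x : N // orderOf x = 13} := by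
      rw [← Fintype.card_coe, ← Nat.card_eq_fintype_card]
      refine Nat.card_le_card_of_injective (fun x : el H 13 => ⟨⟨x.1, mem_of_pow hN f13.1 (fun hd => by
        have := Nat.le_of_dvd (by norm_num) (hd.trans hrel)
        omega) (mem_el.1 x.2).1 (by
          have h := pow_orderOf_eq_one x.1
          rwa [(mem_el.1 x.2).2] at h)⟩, ?_⟩) ?_
      · rw [← Subgroup.orderOf_coe]
        exact (mem_el.1 x.2).2
      · intro x y hxy
        exact Subtype.ext (congrArg (fun s : {x : N // orderOf x = 13} => ((s.1 : N) : G)) hxy)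
    have h4 : Nat.card (Sylow 13 N) * (13 - 1) ≤ 144 * 12 := Nat.mul_le_mul_right 12 h2
    exact h3.trans (h1.trans h4)
  -- the two-point stabilisers
  obtain ⟨E, iE, f, hE, hE3, hf⟩ := L33.exists_emb hF i
  let fH : E →* H := (Subgroup.inclusion hN.le).comp (e'.symm.toMonoidHom.comp f)
  have hfH : Function.Injective fH :=
    (Subgroup.inclusion_injective hN.le).comp (e'.symm.injective.comp hf)
  have hM : ∀ g ∉ H, (12 : ℚ) ≤ ∑ r ∈ ({3, 13} : Finset ℕ), (if r = 3 then (3 : ℚ) else 1) *
      ((el (H ⊓ cj g H : Subgroup G) r).card : ℚ) := by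
    intro g hg
    rw [Finset.sum_pair (by norm_num)]
    simp only [if_true, one_mul, show ¬ (13 = 3) by norm_num, if_false]
    have hno : ¬ IsPGroup 2 (H ⊓ cj g H : Subgroup G) :=
      EPS.noTwo h (fun t ht hP => (L33.not_two hF i t ht hP).elim) hg
    obtain ⟨r, hr, hr2, hrd⟩ := exists_prime_of_not_pgroup Nat.prime_two hno
    have hrH : r ∣ 2 ^ 5 * 3 ^ 3 * 13 := by
      have h1 := (hrd.trans (Subgroup.card_dvd_of_le inf_le_left)).trans hHdvd
      norm_num
      exact h1
    have hr' : r = 3 ∨ r = 13 := by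
      rcases (Nat.Prime.dvd_mul hr).1 hrH with h1 | h1
      · rcases (Nat.Prime.dvd_mul hr).1 h1 with h1 | h1
        · exact (hr2 ((Nat.prime_dvd_prime_iff_eq hr Nat.prime_two).1 (hr.dvd_of_dvd_pow h1))).elim
        · exact Or.inl ((Nat.prime_dvd_prime_iff_eq hr Nat.prime_three).1 (hr.dvd_of_dvd_pow h1))
      · exact Or.inr ((Nat.prime_dvd_prime_iff_eq hr f13.1).1 h1)
    have p1 : (0 : ℚ) ≤ ((el (H ⊓ cj g H : Subgroup G) 3).card : ℚ) := Nat.cast_nonneg _
    have p2 : (0 : ℚ) ≤ ((el (H ⊓ cj g H : Subgroup G) 13).card : ℚ) := Nat.cast_nonneg _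
    rcases hr' with rfl | rfl
    · have h1 : (4 : ℚ) ≤ ((el (H ⊓ cj g H : Subgroup G) 3).card : ℚ) := by
        exact_mod_cast four h.ep hg fH hfH hE hE3 hrd
      linarith
    · have h0 : 12 ≤ (el (H ⊓ cj g H : Subgroup G) 13).card := le_card_el (H ⊓ cj g H) f13.1 hrd
      have h1 : (12 : ℚ) ≤ ((el (H ⊓ cj g H : Subgroup G) 13).card : ℚ) := by exact_mod_cast h0
      linarith
  have hfin := weighted_num ({3, 13} : Finset ℕ) (fun r => if r = 3 then (3 : ℚ) else 1)
    (fun r _ => by split_ifs <;> norm_num) 12 hM (fun r => if r = 3 then 729 else 1728)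
    (fun r => if r = 3 then 108 else 13) ?_ ?_
  · rw [Finset.sum_pair (by norm_num)] at hfin
    simp only [if_true, one_mul, show ¬ (13 = 3) by norm_num, if_false] at hfin
    rw [hG] at hfin
    have h1 : (Nat.card H : ℚ) ≤ 11232 := by exact_mod_cast hHle
    push_cast at hfin
    linarith
  · intro r hr
    simp only [Finset.mem_insert, Finset.mem_singleton] at hr
    rcases hr with rfl | rfl
    · simpa using hN3
    · simpa using hN13
  · intro r hr x _ hx
    simp only [Finset.mem_insert, Finset.mem_singleton] at hr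
    rcases hr with rfl | rfl
    · simpa using hz3 x hx
    · simpa using hz13 x hx

end Cfsg.Agent.H602.EPX
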