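import Cfsg.Agent.H407.EPT.Cls
import Cfsg.Agent.H602.EPX.TitsL33

/-!
# S5745: the Tits group, the row `T = L₃(3)` (helper602)

`l33` : the field `l33` of `H224.EPX.Rows Lie.TitsGroup`.
-/

set_option autoImplicit false

namespace Cfsg.Agent.H602.EPX

open Subgroup Cfsg Cfsg.Agent.H209.EPX

/-- **The Tits group: no extremely primitive stabiliser with socle `L₃(3)`** -/
theorem l33 (F : Type) [Field F] [Fintype F] (hF : Fintype.card F = 3) (H N : Subgroup Lie.TitsGroup) (T : Type)
    [Group T] (e : N ≃* (Fin 1 → T)) (h : EPS H N e)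
    (hi : Nonempty (T ≃* Matrix.ProjectiveSpecialLinearGroup (Fin 3) F)) : False := by
  obtain ⟨i⟩ := hi
  exact tits_psl33 Cfsg.Agent.H407.EPT.card_tits h hF i (fun x hx => (Cfsg.Agent.H407.EPT.cent_three hx).le)
    (fun x hx => (Cfsg.Agent.H407.EPT.cent_thirteen hx).le)

end Cfsg.Agent.H602.EPX
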