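import Cfsg.Agent.H944.TS.Rows
import Cfsg.Agent.H943.L19Main
import Cfsg.Agent.H209.EPX.Defs
import Cfsg.Agent.GpExc.Field

/-!
# S5745: simple groups which are not subgroups of `²E₆(2)` and `F₄(2)` (helper602)

From the rows of S5741 (`H944.TS.Asm.all_not`): none of

  L₂(19), L₂(27), L₂(49), L₂(64), L₃(9), L₃(16), L₄(4), Sp₄(8), PSp₆(3), U₃(4), U₄(8), Sz(8), G₂(4), J₁, J₂, J₃, Suz, A₁₃, A₁₄

is a subgroup of `²E₆(2)`; `F₄(2) ≤ ²E₆(2)`. Hence there is no `EPS H N e`, `e : N ≃* T ^ k`, `k ≥ 1`, with `T` one of these.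
-/

set_option autoImplicit false

namespace Cfsg.Agent.H602.EPX

open Cfsg Cfsg.Agent.OrdDiv Cfsg.Agent.H944.TS Cfsg.Agent.H209.EPX

universe u v w

/-- `Real` is invariant under isomorphisms, across universes -/
theorem real_congr {g : Grp} {X : Type u} {Y : Type v} [Group X] [Group Y] (h : Real g X) (e : X ≃* Y) : Real g Y := by
  cases g <;>
    first
    | exact ⟨e.symm.trans h.some⟩
    | (obtain ⟨F, i1, i2, h1, h2⟩ := h; exact ⟨F, i1, i2, h1, ⟨e.symm.trans h2.some⟩⟩)
    | (obtain ⟨F, i1, i2, w, h1, h2, h3⟩ := h; exact ⟨F, i1, i2, w, h1, h2, ⟨e.symm.trans h3.some⟩⟩)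
    | (obtain ⟨F, i1, i2, a, c, h1, h2, h3⟩ := h; exact ⟨F, i1, i2, a, c, h1, h2, ⟨e.symm.trans h3.some⟩⟩)

/-- `T` is a subgroup of `G` -/
theorem exists_hom {G : Type*} [Group G] {H N : Subgroup G} {T : Type} [Group T] {k : ℕ} {e : N ≃* (Fin k → T)}
    (h : EPS H N e) : ∃ f : T →* G, Function.Injective f := by
  classical
  refine ⟨N.subtype.comp (e.symm.toMonoidHom.comp (MonoidHom.mulSingle (fun _ : Fin k => T) ⟨0, h.pos⟩)), ?_⟩
  intro a b hab
  have h1 : e.symm (Pi.mulSingle ⟨0, h.pos⟩ a) = e.symm (Pi.mulSingle ⟨0, h.pos⟩ b) := Subtype.ext hab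
  exact Pi.mulSingle_injective (M := fun _ : Fin k => T) _ (e.symm.injective h1)

/-- a group with an injective homomorphism to `²E₆(2)` has no subgroup named `g` -/
theorem no_hom {K : Type u} [Field K] {g : Grp} (hn : NotE K g) {X : Type v} [Group X]
    (f : X →* ↥(Lie.twistedE6 K 2)) (hf : Function.Injective f) : ¬ Real g X :=
  fun h => hn f.range (real_congr h (MonoidHom.ofInjective hf))

/-- the list of S5741 -/
theorem notE {K : Type u} [Field K] [Fintype K] (hK : Fintype.card K = 4) {g : Grp} (hg : g ∈ Asm.nots) : NotE K g :=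
  Asm.all_not hK (Cfsg.Agent.H943.L19.notE_psl19 hK) g hg

section te6

variable {K : Type u} [Field K] [Fintype K] (hK : Fintype.card K = 4) {H N : Subgroup ↥(Lie.twistedE6 K 2)} {T : Type}
  [Group T] {k : ℕ} {e : N ≃* (Fin k → T)}

include hK

/-- **no `EPS` in `²E₆(2)` with `T` in the list `nots`** -/
theorem te6_not {g : Grp} (hg : g ∈ Asm.nots) (h : EPS H N e) (hT : Real g T) : False := by
  obtain ⟨f, hf⟩ := exists_hom h
  exact no_hom (notE hK hg) f hf hT

/-- **no `J₂`** -/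
theorem te6_j2 (h : EPS H N e) (hT : Spor.IsoJ2 T) : False := te6_not hK (g := .j2) (by decide) h hT

/-- **no `J₃`** -/
theorem te6_j3 (h : EPS H N e) (hT : Spor.IsoJ3 T) : False := te6_not hK (g := .j3) (by decide) h hT

/-- **no `Suz`** -/
theorem te6_suz (h : EPS H N e) (hT : Spor.IsoSuz T) : False := te6_not hK (g := .suz) (by decide) h hT

/-- **no `J₁`** -/
theorem te6_j1 (h : EPS H N e) (hT : Spor.IsoJ1 T) : False := te6_not hK (g := .j1) (by decide) h hT

/-- **no `PSp₆(3)`** -/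
theorem te6_psp63 (h : EPS H N e) {F : Type} [Field F] [Fintype F] (hF : Fintype.card F = 3) (i : T ≃* PSp 3 F) :
    False := te6_not hK (g := .psp 3 3) (by decide) h ⟨F, inferInstance, inferInstance, hF, ⟨i⟩⟩

/-- **no `A₁₃`** -/
theorem te6_alt13 (h : EPS H N e) (i : T ≃* ↥(alternatingGroup (Fin 13))) : False :=
  te6_not hK (g := .alt 13) (by decide) h ⟨i⟩

end te6

/-! ### `F₄(2)` -/

/-- an isomorphism of fields gives an embedding of the groups of type `F₄` -/
theorem exists_f4_te6 {F : Type v} [Field F] [Fintype F] (hF : Fintype.card F = 2) {K : Type u} [Field K] [Fintype K]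
    (hK : Fintype.card K = 4) :
    ∃ f : ↥(Lie.chevF4.group F) →* ↥(Lie.twistedE6 K 2), Function.Injective f := by
  obtain ⟨-, -, L, F', i1, i2, hF', ⟨i⟩⟩ := Cfsg.Agent.H951.TS.A1.inE hK
  obtain ⟨σ⟩ : Nonempty (F ≃+* F') := ⟨FiniteField.ringEquivOfCardEq (by rw [hF, hF'])⟩
  have hD : Cfsg.Agent.ChevalleyStructure.Elts.InList Lie.chevF4 := by simp
  refine ⟨(L.subtype.comp i.symm.toMonoidHom).comp (Cfsg.Agent.GpExc.Field.emb hD σ.toRingHom), ?_⟩
  exact (L.subtype_injective.comp i.symm.injective).comp (Cfsg.Agent.GpExc.Field.emb_injective hD σ.toRingHom)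

section f4

variable {F : Type u} [Field F] [Fintype F] (hF : Fintype.card F = 2) {H N : Subgroup ↥(Lie.chevF4.group F)} {T : Type}
  [Group T] {k : ℕ} {e : N ≃* (Fin k → T)}

include hF

/-- **no `EPS` in `F₄(2)` with `T` in the list `nots`** -/
theorem f4_not {g : Grp} (hg : g ∈ Asm.nots) (h : EPS H N e) (hT : Real g T) : False := by
  have : Fintype (GaloisField 2 2) := Fintype.ofFinite _
  have hK : Fintype.card (GaloisField 2 2) = 4 := by
    rw [← Nat.card_eq_fintype_card, GaloisField.card _ _ (by norm_num)]; norm_num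
  obtain ⟨f1, hf1⟩ := exists_f4_te6 hF hK
  obtain ⟨f, hf⟩ := exists_hom h
  exact no_hom (notE hK hg) (f1.comp f) (hf1.comp hf) hT

/-- **no `L₂(27)`** -/
theorem f4_psl27 (h : EPS H N e) {K : Type} [Field K] [Fintype K] (hK : Fintype.card K = 27)
    (i : T ≃* Matrix.ProjectiveSpecialLinearGroup (Fin 2) K) : False :=
  f4_not hF (g := .psl 2 27) (by decide) h ⟨K, inferInstance, inferInstance, hK, ⟨i⟩⟩

/-- **no `L₂(49)`** -/
theorem f4_psl49 (h : EPS H N e) {K : Type} [Field K] [Fintype K] (hK : Fintype.card K = 49)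
    (i : T ≃* Matrix.ProjectiveSpecialLinearGroup (Fin 2) K) : False :=
  f4_not hF (g := .psl 2 49) (by decide) h ⟨K, inferInstance, inferInstance, hK, ⟨i⟩⟩

/-- **no `J₂`** -/
theorem f4_j2 (h : EPS H N e) (hT : Spor.IsoJ2 T) : False := f4_not hF (g := .j2) (by decide) h hT

end f4

end Cfsg.Agent.H602.EPX
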