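import Cfsg.Agent.H943.E7V.AdmMain
import Cfsg.Agent.H846.E72.JTwo
import Cfsg.Agent.H174.E72.Omega7
import Cfsg.Agent.H602.EPX.TE6
import Cfsg.Agent.S1679
import Cfsg.Agent.S1686
import Cfsg.Agent.S5744
import Cfsg.Agent.S5746

/-!
# S5745: `J₂`, `G₂(4)`, `Suz`, `PΩ₇(3)` and `Fi₂₂` are not subgroups of `E₇(2)` (helper602)

`J₂ ≤ G₂(4) ≤ Suz` (S5746, S1679), `Ω₇(3) ≤ Fi₂₂` (S1686), and `J₂`, `Ω₇(3)` are not admissible (S5935).
-/

set_option autoImplicit false

namespace Cfsg.Agent.H602.EPX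

open Cfsg Cfsg.Lie Cfsg.Agent.H943.E7V Cfsg.Agent.H209.EPX

universe u v

section

variable {T : Type v} [Group T]

theorem not_adm_g2_four {F : Type u} [Field F] [Fintype F] (hF : Fintype.card F = 4) (e : T ≃* ↥(chevG2.group F)) :
    ¬ Adm T := by
  intro h
  obtain ⟨H, -, hJ, -⟩ := Cfsg.Agent.S5746.result hF
  exact Cfsg.Agent.H846.E72.not_j2 hJ (h.comap (e.symm.toMonoidHom.comp H.subtype)
    (e.symm.injective.comp H.subtype_injective))

theorem not_adm_suz (h : Spor.IsoSuz T) : ¬ Adm T := by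
  intro hA
  obtain ⟨i⟩ := h
  obtain ⟨K, _, _, hK, ⟨e⟩⟩ := Cfsg.Agent.S1679.result
  exact not_adm_g2_four hK e (hA.comap (i.symm.toMonoidHom.comp (Subgroup.subtype _))
    (i.symm.injective.comp (Subgroup.subtype_injective _)))

theorem not_adm_pomega7 (e : T ≃* POmega (ZMod 3) (quadFormOdd 3 (ZMod 3))) : ¬ Adm T := by
  obtain ⟨f⟩ := Cfsg.Agent.S5744.exists_equiv
  exact fun h => Cfsg.Agent.H174.E72.not_omega7 (h.comap (e.trans f).symm.toMonoidHom (e.trans f).symm.injective)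

theorem not_adm_fi22 (h : Spor.IsoFi22 T) : ¬ Adm T := by
  intro hA
  obtain ⟨i⟩ := h
  obtain ⟨e⟩ := Cfsg.Agent.S1686.result
  exact not_adm_pomega7 e (hA.comap (i.symm.toMonoidHom.comp (Subgroup.subtype _))
    (i.symm.injective.comp (Subgroup.subtype_injective _)))

end

/-- **`E₇(2)` is admissible** -/
theorem adm_e7 {F : Type u} [Field F] [Fintype F] (hF : Fintype.card F = 2) : Adm ↥(chevE7.group F) := by
  obtain ⟨e⟩ : Nonempty (F ≃+* ZMod 2) := by
    have h1 : Fintype.card F = Fintype.card (ZMod 2) := by rw [hF, ZMod.card]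
    exact ⟨FiniteField.ringEquivOfCardEq h1⟩
  have hD : Cfsg.Agent.ChevalleyStructure.Elts.InList chevE7 := by simp
  exact AdmMain.adm.comap (Cfsg.Agent.GpExc.Field.emb hD e.toRingHom)
    (Cfsg.Agent.GpExc.Field.emb_injective hD e.toRingHom)

/-- no `EPS` with `T` not admissible in an admissible group -/
theorem eps_false {G : Type*} [Group G] {H N : Subgroup G} {T : Type} [Group T] {k : ℕ} {e : N ≃* (Fin k → T)}
    (hG : Adm G) (h : EPS H N e) (hT : ¬ Adm T) : False := by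
  obtain ⟨f, hf⟩ := exists_hom h
  exact hT (hG.comap f hf)

section

variable {F : Type u} [Field F] [Fintype F] (hF : Fintype.card F = 2) {T : Type} [Group T] {k : ℕ}

include hF

section e7

variable {H N : Subgroup ↥(chevE7.group F)} {e : N ≃* (Fin k → T)} (h : EPS H N e)

include h

/-- **no `Suz` in `E₇(2)`** -/
theorem e7_suz (i : Spor.IsoSuz T) : False := eps_false (adm_e7 hF) h (not_adm_suz i)

/-- **no `Fi₂₂` in `E₇(2)`** -/
theorem e7_fi22 (i : Spor.IsoFi22 T) : False := eps_false (adm_e7 hF) h (not_adm_fi22 i)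

/-- **no `J₂` in `E₇(2)`** -/
theorem e7_j2 (i : Spor.IsoJ2 T) : False :=
  eps_false (adm_e7 hF) h (Cfsg.Agent.H846.E72.not_j2 i)

/-- **no `G₂(4)` in `E₇(2)`** -/
theorem e7_g2_four {K : Type*} [Field K] [Fintype K] (hK : Fintype.card K = 4) (i : T ≃* ↥(chevG2.group K)) : False :=
  eps_false (adm_e7 hF) h (not_adm_g2_four hK i)

/-- **no `PΩ₇(3)` in `E₇(2)`** -/
theorem e7_pomega7 (i : T ≃* POmega (ZMod 3) (quadFormOdd 3 (ZMod 3))) : False :=
  eps_false (adm_e7 hF) h (not_adm_pomega7 i)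

end e7

end

end Cfsg.Agent.H602.EPX
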