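import Cfsg.Agent.H602.EPX.TE6
import Cfsg.Agent.H602.EPX.E7
import Cfsg.Agent.H805.EPX.Rows

/-!
# S5745: six fields of `H805.EPX.Rows` (helper602)
-/

set_option autoImplicit false

namespace Cfsg.Agent.H602.EPX.SpRows

open Cfsg Cfsg.Agent.H805.EPX

theorem e7_2_Suz (F : Type) [Field F] [Fintype F] [IsSimpleGroup ↥(Lie.chevE7.group F)] (hF : Fintype.card F = 2) :
    NoRow (fun T _ => Spor.IsoSuz T) ↥(Lie.chevE7.group F) := fun _ _ _ _ _ h i => e7_suz hF h i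

theorem e7_2_Fi22 (F : Type) [Field F] [Fintype F] [IsSimpleGroup ↥(Lie.chevE7.group F)] (hF : Fintype.card F = 2) :
    NoRow (fun T _ => Spor.IsoFi22 T) ↥(Lie.chevE7.group F) := fun _ _ _ _ _ h i => e7_fi22 hF h i

theorem f4_2_J2 (F : Type) [Field F] [Fintype F] [IsSimpleGroup ↥(Lie.chevF4.group F)] (hF : Fintype.card F = 2) :
    NoRow (fun T _ => Spor.IsoJ2 T) ↥(Lie.chevF4.group F) := fun _ _ _ _ _ h i => f4_j2 hF h i

theorem te6_2_J2 (K : Type) [Field K] [Fintype K] [IsSimpleGroup ↥(Lie.twistedE6 K 2)] (hK : Fintype.card K = 4) :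
    NoRow (fun T _ => Spor.IsoJ2 T) ↥(Lie.twistedE6 K 2) := fun _ _ _ _ _ h i => te6_j2 hK h i

theorem te6_2_J3 (K : Type) [Field K] [Fintype K] [IsSimpleGroup ↥(Lie.twistedE6 K 2)] (hK : Fintype.card K = 4) :
    NoRow (fun T _ => Spor.IsoJ3 T) ↥(Lie.twistedE6 K 2) := fun _ _ _ _ _ h i => te6_j3 hK h i

theorem te6_2_Suz (K : Type) [Field K] [Fintype K] [IsSimpleGroup ↥(Lie.twistedE6 K 2)] (hK : Fintype.card K = 4) :
    NoRow (fun T _ => Spor.IsoSuz T) ↥(Lie.twistedE6 K 2) := fun _ _ _ _ _ h i => te6_suz hK h i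

end Cfsg.Agent.H602.EPX.SpRows
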